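import Groth.Agent.EtaleChiLib.Push
import Groth.Agent.PushLinLib.HH
import Groth.Agent.AbSchLib.DimFinite
import Groth.Agent.CurveVBLib.Integral
import Groth.Agent.S7640
import Groth.Agent.S0017
import Groth.Agent.KFlatLib.PerfectPull

/-!
# The Euler characteristic of a finite étale cover of a curve
-/

set_option autoImplicit false
set_option maxHeartbeats 1000000
universe u

open CategoryTheory CategoryTheory.Limits AlgebraicGeometry TopologicalSpace Opposite
open DevissLib

noncomputable section

namespace EtaleChiLib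

variable {X Y : Scheme.{u}}

theorem unitToPush_isIso (e : X ⟶ Y) [IsIso e] : IsIso (ClSub.unitToPush e) := by
  rw [Scheme.Modules.Hom.isIso_iff_isIso_app]
  intro V
  exact (ConcreteCategory.isIso_iff_bijective _).mpr (ConcreteCategory.bijective_of_isIso (e.app V))

theorem genRank_push_iso [IsIntegral Y] (e : X ⟶ Y) [IsIso e] :
    CurvLib.genRank ((Coh.push e).obj (Coh.structureModule X)) = 1 := by
  haveI := unitToPush_isIso e
  refine (genRank_congr (asIso (ClSub.unitToPush e))).symm.trans ?_
  exact (CurvLib.stalkStructureEquiv (genericPoint Y)).finrank_eq.trans (Module.finrank_self _)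

theorem isEmpty_of_genRank_zero {k : Type u} [Field k] [Y.Over (Spec (CommRingCat.of k))]
    [IsProper (Y ↘ Spec (CommRingCat.of k))] [IsIntegral Y] [Smooth (Y ↘ Spec (CommRingCat.of k))]
    (hY : topologicalKrullDim Y = 1) (f : X ⟶ Y) [IsFinite f] [Flat f]
    (h : CurvLib.genRank ((Coh.push f).obj (Coh.structureModule X)) = 0) : IsEmpty X := by
  let M := (Coh.push f).obj (Coh.structureModule X)
  have hr : FlatMod.IsFinLocFreeOfRank 0 M := h ▸ locFree_push (k := k) hY f
  have hs : ∀ y : Y, Subsingleton (M.presheaf.stalk y) := fun y => by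
    obtain ⟨U, hy, ⟨e⟩⟩ := hr y
    exact (CurveVBLib.nonempty_stalk_pi_on e hy).some.injective.subsingleton
  have hM : IsZero M := KFlatLib.isZero_of_stalks hs
  have h1 : (1 : Γ(X, f ⁻¹ᵁ ⊤)) = 0 :=
    congrArg (fun φ : M ⟶ M => φ.app ⊤ (show Γ(M, (⊤ : Y.Opens)) from (1 : Γ(X, f ⁻¹ᵁ ⊤)))) (hM.eq_of_src (𝟙 M) 0)
  by_contra hne
  rw [not_isEmpty_iff] at hne
  obtain ⟨x⟩ := hne
  haveI : Nonempty (f ⁻¹ᵁ (⊤ : Y.Opens)) := ⟨⟨x, trivial⟩⟩
  exact one_ne_zero h1

section

variable {k : Type u} [Field k]

/-- Splitting a direct image along a clopen decomposition of the source. -/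
theorem split [X.Over (Spec (CommRingCat.of k))] [Y.Over (Spec (CommRingCat.of k))]
    [IsProper (Y ↘ Spec (CommRingCat.of k))] [IsIntegral Y] [IsProper (X ↘ Spec (CommRingCat.of k))]
    (f : X ⟶ Y) [IsFinite f] (U V : X.Opens) [IsClosedImmersion U.ι] [IsClosedImmersion V.ι]
    (hUV : Disjoint (U : Set X) V) (hcov : ∀ x : X, x ∈ U ∨ x ∈ V) :
    letI : U.toScheme.Over (Spec (CommRingCat.of k)) := ⟨U.ι ≫ X ↘ Spec (CommRingCat.of k)⟩
    letI : V.toScheme.Over (Spec (CommRingCat.of k)) := ⟨V.ι ≫ X ↘ Spec (CommRingCat.of k)⟩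
    CurvLib.genRank ((Coh.push f).obj (Coh.structureModule X)) =
        CurvLib.genRank ((Coh.push (U.ι ≫ f)).obj (Coh.structureModule U.toScheme)) +
          CurvLib.genRank ((Coh.push (V.ι ≫ f)).obj (Coh.structureModule V.toScheme)) ∧
      Curv2.euler k X (Coh.structureModule X) =
        Curv2.euler k U.toScheme (Coh.structureModule U.toScheme) +
          Curv2.euler k V.toScheme (Coh.structureModule V.toScheme) := by
  letI : U.toScheme.Over (Spec (CommRingCat.of k)) := ⟨U.ι ≫ X ↘ Spec (CommRingCat.of k)⟩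
  letI : V.toScheme.Over (Spec (CommRingCat.of k)) := ⟨V.ι ≫ X ↘ Spec (CommRingCat.of k)⟩
  haveI := CurvLib.isNoetherian k (X := X)
  haveI := CurvLib.isNoetherian k (X := Y)
  haveI : IsLocallyNoetherian U.toScheme := LocallyOfFiniteType.isLocallyNoetherian U.ι
  haveI : IsLocallyNoetherian V.toScheme := LocallyOfFiniteType.isLocallyNoetherian V.ι
  obtain ⟨e⟩ := nonempty_structure_iso U V hUV hcov
  let A := (Coh.push U.ι).obj (Coh.structureModule U.toScheme)
  let B := (Coh.push V.ι).obj (Coh.structureModule V.toScheme)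
  have hA : Coh.IsCoh A := QCohLib.isCoh_push_finite U.ι _ (DevissLib.isCoh_structureModule _)
  have hB : Coh.IsCoh B := QCohLib.isCoh_push_finite V.ι _ (DevissLib.isCoh_structureModule _)
  have hAB : Coh.IsCoh (A ⊞ B) := QCohLib.isCoh_of_iso e (DevissLib.isCoh_structureModule X)
  constructor
  · haveI : (Coh.push f).Additive := inferInstanceAs (Scheme.Modules.pushforward f).Additive
    haveI : PreservesBinaryBiproduct A B (Coh.push f) :=
      preservesBinaryBiproduct_of_preservesBiproduct _ _ _
    have e' : (Coh.push f).obj (Coh.structureModule X) ≅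
        (Coh.push f).obj A ⊞ (Coh.push f).obj B :=
      (Coh.push f).mapIso e ≪≫ (Coh.push f).mapBiprod A B
    refine (genRank_congr e').trans ((genRank_biprod (QCohLib.isCoh_push_finite f A hA)
      (QCohLib.isCoh_push_finite f B hB) (QCohLib.isCoh_of_iso e'
        (QCohLib.isCoh_push_finite f _ (DevissLib.isCoh_structureModule X)))).trans ?_)
    exact congrArg₂ (· + ·) (genRank_congr ((Scheme.Modules.pushforwardComp U.ι f).app (Coh.structureModule U.toScheme)))
      (genRank_congr ((Scheme.Modules.pushforwardComp V.ι f).app (Coh.structureModule V.toScheme)))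
  · refine (CurvLib.euler_congr e).trans ((euler_biprod hA hB hAB).trans ?_)
    haveI : Coh.IsQCoh (Coh.structureModule U.toScheme) := QCohLib.isQCoh_unit
    haveI : Coh.IsQCoh (Coh.structureModule V.toScheme) := QCohLib.isQCoh_unit
    rw [(PushLinLib.euler_push k U.ι rfl (Coh.structureModule U.toScheme)).2,
      (PushLinLib.euler_push k V.ι rfl (Coh.structureModule V.toScheme)).2]

end

variable (k : Type u) [Field k]

/-- The induction hypothesis. -/
def Stmt (d : ℕ) : Prop :=
  ∀ (Y : Scheme.{u}) [Y.Over (Spec (CommRingCat.of k))] [IsIntegral Y] [IsProper (Y ↘ Spec (CommRingCat.of k))]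
    [Smooth (Y ↘ Spec (CommRingCat.of k))], topologicalKrullDim Y = 1 →
    ∀ (X : Scheme.{u}) [X.Over (Spec (CommRingCat.of k))] (f : X ⟶ Y) [IsFinite f] [Etale f],
      f ≫ (Y ↘ Spec (CommRingCat.of k)) = X ↘ Spec (CommRingCat.of k) →
      CurvLib.genRank ((Coh.push f).obj (Coh.structureModule X)) = d →
      Curv2.euler k X (Coh.structureModule X) = d * Curv2.euler k Y (Coh.structureModule Y)

variable {k}

/-- A connected cover is an integral curve, with one point over the generic point. -/
theorem integral_facts [Y.Over (Spec (CommRingCat.of k))] [IsIntegral Y] [IsProper (Y ↘ Spec (CommRingCat.of k))]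
    (hY : topologicalKrullDim Y = 1) [X.Over (Spec (CommRingCat.of k))] [IsIntegral X]
    (f : X ⟶ Y) [IsFinite f] [Etale f] :
    topologicalKrullDim X = 1 ∧ f.base (genericPoint X) = genericPoint Y ∧
      ∀ z, f z = genericPoint Y → z = genericPoint X := by
  have hopen : IsOpen (Set.range f.base) := f.isOpenMap.isOpen_range
  have hsurj : Surjective f := ⟨Set.range_eq_univ.mp (IsClopen.eq_univ
    ⟨f.isClosedMap.isClosed_range, hopen⟩ ⟨_, Set.mem_range_self (genericPoint X)⟩)⟩
  obtain ⟨z₀, hz₀⟩ := f.surjective (genericPoint Y)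
  have hgen : f.base (genericPoint X) = genericPoint Y := by
    have h := ((genericPoint_spec X).specializes (Set.mem_univ z₀)).map f.continuous
    rw [show f.base z₀ = genericPoint Y from hz₀] at h
    exact (h.antisymm ((genericPoint_spec Y).specializes trivial)).eq
  exact ⟨(AbSchLib.topologicalKrullDim_eq_of_finite_surjective f).trans hY, hgen, fun z hz =>
    ((f.isDiscrete_preimage_singleton (genericPoint Y)).eq_of_specializes
      ((genericPoint_spec X).specializes trivial) hgen hz).symm⟩

/-- The fibre square of an integral cover. -/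
theorem square [Y.Over (Spec (CommRingCat.of k))] [IsIntegral Y] [IsProper (Y ↘ Spec (CommRingCat.of k))]
    [Smooth (Y ↘ Spec (CommRingCat.of k))] (hY : topologicalKrullDim Y = 1)
    [X.Over (Spec (CommRingCat.of k))] [IsIntegral X]
    (f : X ⟶ Y) [IsFinite f] [Etale f]
    (hf : f ≫ (Y ↘ Spec (CommRingCat.of k)) = X ↘ Spec (CommRingCat.of k))
    (d : ℕ) (hd : CurvLib.genRank ((Coh.push f).obj (Coh.structureModule X)) = d) :
    ∃ (X' : Scheme.{u}) (g : X' ⟶ X) (_ : IsFinite g) (_ : Etale g),
      letI : X'.Over (Spec (CommRingCat.of k)) := ⟨g ≫ X ↘ Spec (CommRingCat.of k)⟩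
      CurvLib.genRank ((Coh.push g).obj (Coh.structureModule X')) + 1 = d ∧ (IsEmpty X' → Mono f) ∧
      ∃ r : ℤ, r ≠ 0 ∧ Curv2.euler k X (Coh.structureModule X) + Curv2.euler k X' (Coh.structureModule X') =
        r * (Curv2.euler k X (Coh.structureModule X) - d * Curv2.euler k Y (Coh.structureModule Y)) +
          d * Curv2.euler k X (Coh.structureModule X) := by
  obtain ⟨hX, hgen, hfib⟩ := integral_facts (k := k) hY f
  haveI : IsProper (f ≫ (Y ↘ Spec (CommRingCat.of k))) := inferInstance
  haveI : IsProper (X ↘ Spec (CommRingCat.of k)) := hf ▸ this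
  haveI : Smooth (X ↘ Spec (CommRingCat.of k)) := by rw [← hf]; infer_instance
  haveI := CurvLib.isNoetherian k (X := X)
  haveI := CurvLib.isNoetherian k (X := Y)
  let p := pullback.fst f f
  let q := pullback.snd f f
  letI : (pullback f f).Over (Spec (CommRingCat.of k)) := ⟨q ≫ X ↘ Spec (CommRingCat.of k)⟩
  haveI : IsProper ((pullback f f) ↘ Spec (CommRingCat.of k)) :=
    show IsProper (q ≫ X ↘ Spec (CommRingCat.of k)) from inferInstance
  let Δ : X ⟶ pullback f f := pullback.diagonal f
  have hΔ : Δ ≫ q = 𝟙 X := pullback.diagonal_snd f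
  haveI : IsClosedImmersion Δ := (inferInstance : IsClosedImmersion (pullback.diagonal f))
  haveI : IsOpenImmersion Δ := (inferInstance : IsOpenImmersion (pullback.diagonal f))
  let U := Δ.opensRange
  let V : (pullback f f).Opens := ⟨(U : Set ↥(pullback f f))ᶜ, Δ.isClosedEmbedding.isClosed_range.isOpen_compl⟩
  haveI := isClosedImmersion_ι U Δ.isClosedEmbedding.isClosed_range
  haveI := isClosedImmersion_ι V U.2.isClosed_compl
  letI : U.toScheme.Over (Spec (CommRingCat.of k)) := ⟨U.ι ≫ (pullback f f) ↘ Spec (CommRingCat.of k)⟩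
  letI : V.toScheme.Over (Spec (CommRingCat.of k)) := ⟨V.ι ≫ (pullback f f) ↘ Spec (CommRingCat.of k)⟩
  haveI : Etale V.ι := inferInstance
  refine ⟨V.toScheme, V.ι ≫ q, inferInstance, inferInstance, ?_⟩
  have hs := split (k := k) q U V (disjoint_compl_right) fun x => Classical.em _
  have hUq : IsIso (U.ι ≫ q) := by
    have : U.ι ≫ q = Δ.isoOpensRange.inv := by
      rw [← cancel_epi Δ.isoOpensRange.hom, Iso.hom_inv_id, Scheme.Hom.isoOpensRange_hom_ι_assoc, hΔ]
    rw [this]; infer_instance
  obtain ⟨hrk, heu⟩ := hs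
  have hU1 : Curv2.euler k U.toScheme (Coh.structureModule U.toScheme) =
      Curv2.euler k X (Coh.structureModule X) := by
    haveI : Coh.IsQCoh (Coh.structureModule U.toScheme) := QCohLib.isQCoh_unit
    refine (PushLinLib.euler_push k (U.ι ≫ q) (Category.assoc _ _ _) _).2.trans ?_
    haveI := unitToPush_isIso (U.ι ≫ q)
    exact (CurvLib.euler_congr (asIso (ClSub.unitToPush (U.ι ≫ q)))).symm
  rw [genRank_push_iso (U.ι ≫ q)] at hrk
  let A := (Coh.push f).obj (Coh.structureModule X)
  have hA : FlatMod.IsFinLocFreeOfRank d A := hd ▸ locFree_push (k := k) hY f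
  haveI : Coh.IsQCoh (Coh.structureModule X) := QCohLib.isQCoh_unit
  obtain ⟨φ⟩ := Groth.Agent.S0017.result f f p q (IsPullback.of_hasPullback f f) (Coh.structureModule X)
  let ψ : (Scheme.Modules.pullback f).obj A ≅ (Coh.push q).obj (Coh.structureModule (pullback f f)) :=
    φ ≪≫ (Coh.push q).mapIso (KFlatLib.pullUnitIso p)
  have hA' := Groth.Agent.S7640.isFinLocFreeOfRank_pb f hA
  have hZd : CurvLib.genRank ((Coh.push q).obj (Coh.structureModule (pullback f f))) = d :=
    (genRank_congr ψ).symm.trans (CurveVBLib.genRank_eq hA')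
  refine ⟨?_, fun hemp => ?_, ?_⟩
  · rw [← hZd, hrk, add_comm]
  · have hsur : Surjective Δ := ⟨fun z => (Classical.em (z ∈ U)).elim id fun h => hemp.elim ⟨z, h⟩⟩
    haveI : IsIso Δ := (isIso_iff_isOpenImmersion_and_surjective Δ).mpr ⟨inferInstance, hsur⟩
    exact (pullback.isIso_diagonal_iff f).mp this
  · have hr : (f.residueDegree (genericPoint X) : ℤ) = d := by
      rw [← hd]
      exact_mod_cast (DegPullLib.finrank_stalk_push f f.isClosedMap (G := Coh.structureModule X)
        CurvLib.isInvertible_structureModule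
        (fun z hz => hfib z (hz.trans hgen)) _ hgen rfl).symm
    by_cases hd0 : d = 0
    · exfalso
      have := isEmpty_of_genRank_zero (k := k) hY f (hd.trans hd0)
      exact this.elim (genericPoint X)
    refine ⟨d, by exact_mod_cast hd0, ?_⟩
    have hdeg := Groth.Agent.S7640.result k X Y hX hY f hf hgen d A hA
    rw [hr] at hdeg
    have hχA : Curv2.euler k X (Coh.structureModule X) = Curv2.euler k Y A :=
      (PushLinLib.euler_push k f hf (Coh.structureModule X)).2
    haveI : Coh.IsQCoh (Coh.structureModule (pullback f f)) := QCohLib.isQCoh_unit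
    have hχZ : Curv2.euler k (pullback f f) (Coh.structureModule (pullback f f)) =
        Curv2.euler k X ((Scheme.Modules.pullback f).obj A) :=
      (PushLinLib.euler_push k q rfl _).2.trans (CurvLib.euler_congr ψ).symm
    rw [Curv2.deg, Curv2.deg, ← hχA, ← hχZ, heu, hU1] at hdeg
    have hO : (⟨(V.ι ≫ q) ≫ X ↘ Spec (CommRingCat.of k)⟩ : V.toScheme.Over (Spec (CommRingCat.of k))) =
        ⟨V.ι ≫ q ≫ X ↘ Spec (CommRingCat.of k)⟩ := by rw [Category.assoc]
    have hE := congrArg (fun i : V.toScheme.Over (Spec (CommRingCat.of k)) =>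
      @Curv2.euler k _ V.toScheme i (Coh.structureModule V.toScheme)) hO
    refine (congrArg (_ + ·) hE).trans ?_
    show Curv2.euler k X (Coh.structureModule X) + Curv2.euler k V.toScheme (Coh.structureModule V.toScheme) = _
    linarith

theorem stmt_all (k : Type u) [Field k] (d : ℕ) : Stmt k d := by
  induction d using Nat.strong_induction_on with
  | _ d ih =>
    intro Y _ _ _ _ hY X _ f _ _ hf hd
    haveI : IsProper (f ≫ (Y ↘ Spec (CommRingCat.of k))) := inferInstance
    haveI : IsProper (X ↘ Spec (CommRingCat.of k)) := hf ▸ this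
    haveI : Smooth (X ↘ Spec (CommRingCat.of k)) := by rw [← hf]; infer_instance
    haveI := CurvLib.isNoetherian k (X := X)
    haveI := CurvLib.isNoetherian k (X := Y)
    haveI : ∀ x : X, IsDomain (X.presheaf.stalk x) := fun x =>
      haveI := CurveVBLib.regular_stalk (k := k) x
      CommAlgDim.isDomain_of_isRegularLocalRing _
    rcases isEmpty_or_nonempty X with he | hne
    · let M := (Coh.push f).obj (Coh.structureModule X)
      haveI : Coh.IsQCoh (Coh.structureModule X) := QCohLib.isQCoh_unit
      have hM : IsZero M := KFlatLib.isZero_of_stalks fun y => by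
        by_contra h
        obtain ⟨z, -⟩ := DevissLib.support_push_subset f (Coh.structureModule X) (show y ∈ CohB1.support _ from h)
        exact he.elim z
      have hMc : Coh.IsCoh M := DevissLib.isCoh_of_isZero hM
      have hz : Curv2.euler k Y M = 0 := by
        have hMM : IsZero (M ⊞ M) := biprod_isZero_iff _ _ |>.mpr ⟨hM, hM⟩
        have h2 := euler_biprod (k := k) hMc hMc (DevissLib.isCoh_of_isZero hMM)
        rw [← CurvLib.euler_congr (hM.iso hMM)] at h2
        linarith
      rw [← hd, CurveVBLib.genRank_of_isZero hM, (PushLinLib.euler_push k f hf (Coh.structureModule X)).2,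
        Nat.cast_zero, zero_mul]
      exact hz
    by_cases hc : PreconnectedSpace X
    · haveI : ConnectedSpace X := { hc with toNonempty := hne }
      haveI : IsIntegral X := CurveVBLib.isIntegral_of_connected
      obtain ⟨X', g, _, _, h1, -, r, hr, h2⟩ := square (k := k) hY f hf d hd
      letI : X'.Over (Spec (CommRingCat.of k)) := ⟨g ≫ X ↘ Spec (CommRingCat.of k)⟩
      obtain ⟨hX, -, -⟩ := integral_facts (k := k) hY f
      have h3 := ih (CurvLib.genRank ((Coh.push g).obj (Coh.structureModule X'))) (by omega) X hX X' g rfl rfl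
      rw [h3, ← h1] at h2
      push_cast at h2
      have h4 : r * (Curv2.euler k X (Coh.structureModule X) - d * Curv2.euler k Y (Coh.structureModule Y)) = 0 := by
        rw [← h1]; push_cast; linarith
      exact sub_eq_zero.mp ((mul_eq_zero.mp h4).resolve_left hr)
    · obtain ⟨s, hs, hs0, hs1⟩ : ∃ s : Set X, IsClopen s ∧ s.Nonempty ∧ s ≠ Set.univ := by
        by_contra h
        simp only [not_exists, not_and, not_not] at h
        exact hc (preconnectedSpace_iff_clopen.mpr fun s hs => s.eq_empty_or_nonempty.imp id (h s hs))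
      let U : X.Opens := ⟨s, hs.2⟩
      let V : X.Opens := ⟨sᶜ, hs.1.isOpen_compl⟩
      haveI := isClosedImmersion_ι U hs.1
      haveI := isClosedImmersion_ι V hs.2.isClosed_compl
      letI : U.toScheme.Over (Spec (CommRingCat.of k)) := ⟨U.ι ≫ X ↘ Spec (CommRingCat.of k)⟩
      letI : V.toScheme.Over (Spec (CommRingCat.of k)) := ⟨V.ι ≫ X ↘ Spec (CommRingCat.of k)⟩
      obtain ⟨h1, h2⟩ := split (k := k) f U V disjoint_compl_right fun x => Classical.em _
      have hU0 : CurvLib.genRank ((Coh.push (U.ι ≫ f)).obj (Coh.structureModule U.toScheme)) ≠ 0 := fun h0 =>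
        (isEmpty_of_genRank_zero (k := k) hY _ h0).elim ⟨hs0.some, hs0.some_mem⟩
      have hV0 : CurvLib.genRank ((Coh.push (V.ι ≫ f)).obj (Coh.structureModule V.toScheme)) ≠ 0 := fun h0 => by
        obtain ⟨x, hx⟩ := (Set.ne_univ_iff_exists_notMem s).mp hs1
        exact (isEmpty_of_genRank_zero (k := k) hY _ h0).elim ⟨x, hx⟩
      have hUf : (U.ι ≫ f) ≫ (Y ↘ Spec (CommRingCat.of k)) = U.toScheme ↘ Spec (CommRingCat.of k) :=
        (Category.assoc _ _ _).trans (congrArg (U.ι ≫ ·) hf)
      have hVf : (V.ι ≫ f) ≫ (Y ↘ Spec (CommRingCat.of k)) = V.toScheme ↘ Spec (CommRingCat.of k) :=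
        (Category.assoc _ _ _).trans (congrArg (V.ι ≫ ·) hf)
      rw [h2, ih _ (by omega) Y hY U.toScheme (U.ι ≫ f) hUf rfl, ih _ (by omega) Y hY V.toScheme (V.ι ≫ f) hVf rfl,
        ← hd, h1]
      push_cast
      ring

/-- `χ(O_X) = d · χ(O_Y)` for a finite étale cover of degree `d` of a smooth proper curve. -/
theorem euler_etale [X.Over (Spec (CommRingCat.of k))] [Y.Over (Spec (CommRingCat.of k))] [IsIntegral Y]
    [IsProper (Y ↘ Spec (CommRingCat.of k))] [Smooth (Y ↘ Spec (CommRingCat.of k))]
    (hY : topologicalKrullDim Y = 1) (f : X ⟶ Y) [IsFinite f] [Etale f]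
    (hf : f ≫ (Y ↘ Spec (CommRingCat.of k)) = X ↘ Spec (CommRingCat.of k)) :
    Curv2.euler k X (Coh.structureModule X) =
      CurvLib.genRank ((Coh.push f).obj (Coh.structureModule X)) * Curv2.euler k Y (Coh.structureModule Y) :=
  stmt_all k _ Y hY X f hf rfl

/-- Integral covers of degree one are isomorphisms. -/
theorem isIso_of_genRank_one [X.Over (Spec (CommRingCat.of k))] [Y.Over (Spec (CommRingCat.of k))] [IsIntegral Y]
    [IsProper (Y ↘ Spec (CommRingCat.of k))] [Smooth (Y ↘ Spec (CommRingCat.of k))]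
    (hY : topologicalKrullDim Y = 1) [IsIntegral X] (f : X ⟶ Y) [IsFinite f] [Etale f]
    (hf : f ≫ (Y ↘ Spec (CommRingCat.of k)) = X ↘ Spec (CommRingCat.of k))
    (h : CurvLib.genRank ((Coh.push f).obj (Coh.structureModule X)) = 1) : IsIso f := by
  obtain ⟨hX, -, -⟩ := integral_facts (k := k) hY f
  haveI : IsProper (f ≫ (Y ↘ Spec (CommRingCat.of k))) := inferInstance
  haveI : IsProper (X ↘ Spec (CommRingCat.of k)) := hf ▸ this
  haveI : Smooth (X ↘ Spec (CommRingCat.of k)) := by rw [← hf]; infer_instance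
  obtain ⟨X', g, _, _, h1, h2, -⟩ := square (k := k) hY f hf 1 h
  haveI : Mono f := h2 (isEmpty_of_genRank_zero (k := k) hX g (by omega))
  haveI : IsClosedImmersion f := (IsClosedImmersion.iff_isFinite_and_mono f).mpr ⟨inferInstance, inferInstance⟩
  haveI : Surjective f := ⟨Set.range_eq_univ.mp (IsClopen.eq_univ
    ⟨f.isClosedMap.isClosed_range, f.isOpenMap.isOpen_range⟩ ⟨_, Set.mem_range_self (genericPoint X)⟩)⟩
  exact isIso_of_isClosedImmersion_of_surjective f

end EtaleChiLib

end
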