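import Groth.Agent.EtaleChiLib.Clopen
import Groth.Agent.S1688
import Groth.Agent.CurveVBLib.Basic
import Groth.Agent.CurvLib.Line

/-!
# Direct images of finite flat morphisms to curves
-/

set_option autoImplicit false
universe u

open CategoryTheory CategoryTheory.Limits AlgebraicGeometry TopologicalSpace Opposite
open DevissLib

noncomputable section

namespace EtaleChiLib

variable {X Y : Scheme.{u}}

/-- Direct images of finite flat morphisms to integral schemes are torsion free. -/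
theorem torsionFree_push [IsIntegral Y] (f : X ⟶ Y) [IsFinite f] [Flat f] (y : Y) :
    NoZeroSMulDivisors (Y.presheaf.stalk y)
      (((Coh.push f).obj (Coh.structureModule X)).presheaf.stalk y) := by
  rw [noZeroSMulDivisors_iff]
  intro r a h
  rw [or_iff_not_imp_left]
  intro hr
  obtain ⟨U₁, h₁, r', rfl⟩ := Y.presheaf.exists_germ_eq (x := y) r
  obtain ⟨U₂, h₂, s, rfl⟩ := exists_gm_eq ((Coh.push f).obj (Coh.structureModule X)) y a
  obtain ⟨V, hV, hyV, hle⟩ := Opens.isBasis_iff_nbhd.mp Y.isBasis_affineOpens (show y ∈ U₁ ⊓ U₂ from ⟨h₁, h₂⟩)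
  let M := (Coh.push f).obj (Coh.structureModule X)
  let r₁ : Γ(Y, V) := Y.presheaf.map (homOfLE (hle.trans inf_le_left)).op r'
  let s₁ : Γ(M, V) := M.presheaf.map (homOfLE (hle.trans inf_le_right)).op s
  have hr₁ : Y.presheaf.germ V y hyV r₁ = Y.presheaf.germ U₁ y h₁ r' := TopCat.Presheaf.germ_res_apply _ _ _ _ _
  have hs₁ : gm M y hyV s₁ = gm M y h₂ s := gm_map M _ y hyV s
  rw [← hs₁] at h ⊢
  rw [← hr₁] at h hr
  have h' : M.presheaf.germ V y hyV (r₁ • s₁) = 0 := (AmpleLib.germ_smul M r₁ s₁ hyV).trans h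
  obtain ⟨W, hyW, i₁, i₂, he⟩ := TopCat.Presheaf.germ_eq M.presheaf y hyV hyV (r₁ • s₁) (0 : Γ(M, V))
    (h'.trans (map_zero _).symm)
  obtain ⟨V', hV', hyV', hle'⟩ := Opens.isBasis_iff_nbhd.mp Y.isBasis_affineOpens hyW
  have hV'V : V' ≤ V := hle'.trans (leOfHom i₁)
  let r₂ : Γ(Y, V') := Y.presheaf.map (homOfLE hV'V).op r₁
  let s₂ : Γ(M, V') := M.presheaf.map (homOfLE hV'V).op s₁
  have hr₂ : r₂ ≠ 0 := fun h0 => hr (by
    rw [← TopCat.Presheaf.germ_res_apply Y.presheaf (homOfLE hV'V) y hyV']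
    exact (congrArg _ h0).trans (map_zero _))
  have h2 : r₂ • s₂ = 0 := by
    have := congrArg (M.presheaf.map (homOfLE hle').op) he
    rw [map_zero, map_zero] at this
    refine (AmpleLib.res_smul M hV'V r₁ s₁).symm.trans ?_
    exact (QCohLib.map_map' M (homOfLE hle') i₁ _).symm.trans this
  have hz : s₂ = 0 := by
    letI : Algebra Γ(Y, V') Γ(X, f ⁻¹ᵁ V') := (f.app V').hom.toAlgebra
    haveI : Module.Flat Γ(Y, V') Γ(X, f ⁻¹ᵁ V') := by
      have := f.flat_appLE hV' (hV'.preimage f) le_rfl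
      rwa [← Scheme.Hom.app_eq_appLE] at this
    haveI : Nonempty V' := ⟨⟨y, hyV'⟩⟩
    haveI : IsDomain Γ(Y, V') := IsIntegral.component_integral V'
    have hreg := IsSMulRegular.of_flat (S := Γ(X, f ⁻¹ᵁ V'))
      (show IsSMulRegular Γ(Y, V') r₂ from fun a b hab => mul_left_cancel₀ hr₂ hab)
    change (show Γ(X, f ⁻¹ᵁ V') from f.app V' r₂ • (show Γ(X, f ⁻¹ᵁ V') from s₂)) = 0 at h2
    exact hreg (show (algebraMap Γ(Y, V') Γ(X, f ⁻¹ᵁ V') r₂) • (show Γ(X, f ⁻¹ᵁ V') from s₂) =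
      (algebraMap Γ(Y, V') Γ(X, f ⁻¹ᵁ V') r₂) • (0 : Γ(X, f ⁻¹ᵁ V')) from h2.trans (smul_zero _).symm)
  rw [← gm_map M hV'V y hyV' s₁]
  exact (congrArg _ hz).trans (map_zero _)

variable {k : Type u} [Field k] [Y.Over (Spec (CommRingCat.of k))]
  [IsProper (Y ↘ Spec (CommRingCat.of k))] [IsIntegral Y]

theorem locFree_push [Smooth (Y ↘ Spec (CommRingCat.of k))] (hY : topologicalKrullDim Y = 1)
    (f : X ⟶ Y) [IsFinite f] [Flat f] :
    FlatMod.IsFinLocFreeOfRank (CurvLib.genRank ((Coh.push f).obj (Coh.structureModule X)))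
      ((Coh.push f).obj (Coh.structureModule X)) :=
  haveI := CurvLib.isNoetherian k (X := Y)
  haveI : IsLocallyNoetherian X := LocallyOfFiniteType.isLocallyNoetherian f
  CurveVBLib.rank_genRank ((Groth.Agent.S1688.result Y (fun x => CurveVBLib.regular_stalk (k := k) x) hY.le _
    (QCohLib.isCoh_push_finite f _ (DevissLib.isCoh_structureModule X))).mp (torsionFree_push f))

omit [IsProper (Y ↘ Spec (CommRingCat.of k))] [Y.Over (Spec (CommRingCat.of k))] [Field k] in
theorem genRank_congr {M N : Y.Modules} (e : M ≅ N) : CurvLib.genRank M = CurvLib.genRank N :=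
  LinearEquiv.finrank_eq ((St (genericPoint Y)).mapIso e).toLinearEquiv

omit [IsProper (Y ↘ Spec (CommRingCat.of k))] [Y.Over (Spec (CommRingCat.of k))] [Field k] in
theorem genRank_biprod [IsLocallyNoetherian Y] {A B : Y.Modules} (hA : Coh.IsCoh A) (hB : Coh.IsCoh B)
    (hAB : Coh.IsCoh (A ⊞ B)) : CurvLib.genRank (A ⊞ B) = CurvLib.genRank A + CurvLib.genRank B :=
  CurvLib.genRank_add (S := ShortComplex.mk biprod.inl biprod.snd biprod.inl_snd)
    (ShortComplex.Splitting.shortExact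
      { r := biprod.fst, s := biprod.inr, f_r := biprod.inl_fst, s_g := biprod.inr_snd, id := biprod.total }) hA hAB hB

omit [IsIntegral Y] in
theorem euler_biprod {A B : Y.Modules} (hA : Coh.IsCoh A) (hB : Coh.IsCoh B) (hAB : Coh.IsCoh (A ⊞ B)) :
    Curv2.euler k Y (A ⊞ B) = Curv2.euler k Y A + Curv2.euler k Y B :=
  CurvLib.euler_add_of_isCoh (k := k) (S := ShortComplex.mk biprod.inl biprod.snd biprod.inl_snd)
    (ShortComplex.Splitting.shortExact
      { r := biprod.fst, s := biprod.inr, f_r := biprod.inl_fst, s_g := biprod.inr_snd, id := biprod.total }) hA hAB hB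

end EtaleChiLib

end
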