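import Groth.Agent.CurvLib.EulerTensor
import Groth.Agent.KFlatLib.PullTensor
import Groth.Agent.DevissLib.ClosedImm
import Groth.Prelude.Def_ClSub2

/-!
# The structure module of a disjoint union of two open pieces
-/

set_option autoImplicit false
universe u

open CategoryTheory CategoryTheory.Limits AlgebraicGeometry TopologicalSpace Opposite
open DevissLib

noncomputable section

namespace EtaleChiLib

variable {Z : Scheme.{u}}

theorem isClosedImmersion_ι (U : Z.Opens) (hU : IsClosed (U : Set Z)) : IsClosedImmersion U.ι :=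
  IsClosedImmersion.of_isPreimmersion U.ι (by rw [Scheme.Opens.range_ι]; exact hU)

theorem stalk_unitToPush_bijective (U : Z.Opens) {x : Z} (hx : x ∈ U) :
    Function.Bijective ((St x).map (ClSub.unitToPush U.ι)).hom := by
  have hb : ∀ W : Z.Opens, W ≤ U → Function.Bijective ((ClSub.unitToPush U.ι).app W) := fun W hW => by
    haveI := U.ι.isIso_app W (by rw [Scheme.Opens.opensRange_ι]; exact hW)
    exact ConcreteCategory.bijective_of_isIso (U.ι.app W)
  constructor
  · refine (injective_iff_map_eq_zero _).mpr fun a ha => ?_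
    obtain ⟨W, hxW, s, rfl⟩ := exists_gm_eq _ x a
    rw [gm_app] at ha
    obtain ⟨W', hxW', i₁, i₂, he⟩ := TopCat.Presheaf.germ_eq _ x hxW hxW
      ((ClSub.unitToPush U.ι).app W s) (0 : Γ((Scheme.Modules.pushforward U.ι).obj (Coh.structureModule U.toScheme), W))
      (ha.trans (map_zero _).symm)
    rw [← gm_map _ (show W' ⊓ U ≤ W from inf_le_left.trans (leOfHom i₁)) x ⟨hxW', hx⟩ s]
    refine (congrArg _ (?_ : _ = (0 : Γ(Coh.structureModule Z, W' ⊓ U)))).trans (map_zero _)
    refine (hb (W' ⊓ U) inf_le_right).1 (Eq.trans ?_ (map_zero _).symm)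
    rw [QCohLib.app_map]
    have h1 := congrArg (((Scheme.Modules.pushforward U.ι).obj (Coh.structureModule U.toScheme)).presheaf.map
      (homOfLE (inf_le_left : W' ⊓ U ≤ W')).op) he
    rw [map_zero, map_zero] at h1
    exact (QCohLib.map_map' _ _ i₁ _).symm.trans h1
  · intro a
    obtain ⟨W, hxW, t, rfl⟩ := exists_gm_eq _ x a
    obtain ⟨s, hs⟩ := (hb (W ⊓ U) inf_le_right).2
      (((Scheme.Modules.pushforward U.ι).obj (Coh.structureModule U.toScheme)).presheaf.map
        (homOfLE (inf_le_left : W ⊓ U ≤ W)).op t)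
    refine ⟨gm _ x (show x ∈ W ⊓ U from ⟨hxW, hx⟩) s, ?_⟩
    rw [gm_app]
    exact (congrArg _ hs).trans (gm_map _ inf_le_left x ⟨hxW, hx⟩ t)

theorem isZero_stalk_push (U : Z.Opens) [IsClosedImmersion U.ι] {x : Z} (hx : x ∉ U) :
    IsZero ((St x).obj ((Coh.push U.ι).obj (Coh.structureModule U.toScheme))) := by
  refine @ModuleCat.isZero_of_subsingleton _ _ _ ?_
  by_contra h
  obtain ⟨z, rfl⟩ := DevissLib.support_push_subset U.ι (Coh.structureModule U.toScheme)
    (show x ∈ CohB1.support _ from h)
  exact hx z.2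

/-- `O_Z = O_U ⊕ O_V` for a disjoint open cover. -/
theorem nonempty_structure_iso (U V : Z.Opens) (hUV : Disjoint (U : Set Z) V) (hcov : ∀ x : Z, x ∈ U ∨ x ∈ V) :
    Nonempty (Coh.structureModule Z ≅ (Coh.push U.ι).obj (Coh.structureModule U.toScheme) ⊞
      (Coh.push V.ι).obj (Coh.structureModule V.toScheme)) := by
  have hUc : (U : Set Z) = (V : Set Z)ᶜ := Set.ext fun x =>
    ⟨fun h h' => Set.disjoint_left.mp hUV h h', fun h => (hcov x).resolve_right h⟩
  have hVc : (V : Set Z) = (U : Set Z)ᶜ := by rw [hUc, compl_compl]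
  haveI := isClosedImmersion_ι U (hUc ▸ V.2.isClosed_compl)
  haveI := isClosedImmersion_ι V (hVc ▸ U.2.isClosed_compl)
  let φ := biprod.lift (ClSub.unitToPush U.ι) (ClSub.unitToPush V.ι)
  suffices IsIso φ from ⟨asIso φ⟩
  refine KFlatLib.isIso_of_stalks φ fun x => ?_
  let F := DerSch.stalkFunctor Z x
  rcases hcov x with hx | hx
  · have hz : IsZero (F.obj ((Coh.push V.ι).obj (Coh.structureModule V.toScheme))) :=
      isZero_stalk_push V fun h => Set.disjoint_left.mp hUV hx h
    haveI : IsIso (F.map (biprod.fst : (Coh.push U.ι).obj (Coh.structureModule U.toScheme) ⊞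
        (Coh.push V.ι).obj (Coh.structureModule V.toScheme) ⟶ _)) :=
      ⟨F.map biprod.inl, by
        rw [← Functor.map_comp]
        refine Eq.trans ?_ (F.map_id _)
        refine Eq.trans ?_ (congrArg F.map biprod.total)
        rw [Functor.map_add, F.map_comp biprod.snd, hz.eq_zero_of_tgt (F.map biprod.snd), zero_comp]
        exact (add_zero _).symm,
       by rw [← Functor.map_comp, biprod.inl_fst, CategoryTheory.Functor.map_id]⟩
    haveI : IsIso (F.map φ ≫ F.map biprod.fst) := by
      rw [← Functor.map_comp, biprod.lift_fst]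
      exact (ConcreteCategory.isIso_iff_bijective _).mpr (stalk_unitToPush_bijective U hx)
    exact IsIso.of_isIso_comp_right (F.map φ) (F.map biprod.fst)
  · have hz : IsZero (F.obj ((Coh.push U.ι).obj (Coh.structureModule U.toScheme))) :=
      isZero_stalk_push U fun h => Set.disjoint_left.mp hUV h hx
    haveI : IsIso (F.map (biprod.snd : (Coh.push U.ι).obj (Coh.structureModule U.toScheme) ⊞
        (Coh.push V.ι).obj (Coh.structureModule V.toScheme) ⟶ _)) :=
      ⟨F.map biprod.inr, by
        rw [← Functor.map_comp]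
        refine Eq.trans ?_ (F.map_id _)
        refine Eq.trans ?_ (congrArg F.map biprod.total)
        rw [Functor.map_add, F.map_comp biprod.fst, hz.eq_zero_of_tgt (F.map biprod.fst), zero_comp]
        exact (zero_add _).symm,
       by rw [← Functor.map_comp, biprod.inr_snd, CategoryTheory.Functor.map_id]⟩
    haveI : IsIso (F.map φ ≫ F.map biprod.snd) := by
      rw [← Functor.map_comp, biprod.lift_snd]
      exact (ConcreteCategory.isIso_iff_bijective _).mpr (stalk_unitToPush_bijective V hx)
    exact IsIso.of_isIso_comp_right (F.map φ) (F.map biprod.snd)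

end EtaleChiLib

end
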